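import Mathlib

set_option autoImplicit false
set_option linter.unusedSectionVars false

/-!
# Uniqueness of the strongly regular graph srg(77,16,0,4): definitions

`G` is a simple graph on a finite type `V`.  Everything is phrased with `Finset`s.

* `cn G x y`      : the common neighbours of `x` and `y`;
* `Hyp G`         : the srg(77,16,0,4) hypotheses in `Finset` form;
* `touch G x y k` : the vertices `≠ x, y`, adjacent to neither `x` nor `y`, having exactly `k`
                    neighbours among the common neighbours of `x` and `y`;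
* `mates G x y`   : `touch G x y 0`;
* `line G x y`    : `{x, y} ∪ mates G x y` (a 5-coclique when `x ≠ y` are non-adjacent);
* `NoEdges G s t` : no edge between `s` and `t`;
* `perp G ℓ`      : the vertices with no neighbour in `ℓ`;
* `plane G ℓ v`   : the union of the lines `line G v w`, `w ∈ ℓ`;
* `IsPoint G C`   : `C = plane G ℓ v` for a line `ℓ` and a vertex `v ∈ perp G ℓ`, `v ∉ ℓ`
                    (these are the 22 cocliques of size 21 = the points of the `S(3,6,22)`).
-/

namespace Cfsg.Agent.Helper94.Srg77

open Finset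

variable {V : Type*} [Fintype V] [DecidableEq V] (G : SimpleGraph V) [DecidableRel G.Adj]

/-- common neighbours -/
def cn (x y : V) : Finset V := G.neighborFinset x ∩ G.neighborFinset y

/-- the srg(77,16,0,4) hypotheses in `Finset` form -/
structure Hyp : Prop where
  card : Fintype.card V = 77
  deg : ∀ x, (G.neighborFinset x).card = 16
  adj : ∀ x y, G.Adj x y → cn G x y = ∅
  nadj : ∀ x y, x ≠ y → ¬ G.Adj x y → (cn G x y).card = 4

/-- vertices `≠ x, y`, adjacent to neither, with exactly `k` neighbours in `cn G x y` -/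
def touch (x y : V) (k : ℕ) : Finset V :=
  univ.filter fun v => v ≠ x ∧ v ≠ y ∧ ¬ G.Adj v x ∧ ¬ G.Adj v y ∧
    (G.neighborFinset v ∩ cn G x y).card = k

/-- the (three) mates of a non-adjacent pair -/
def mates (x y : V) : Finset V := touch G x y 0

/-- the line through `x` and `y` -/
def line (x y : V) : Finset V := insert x (insert y (mates G x y))

/-- no edge between `s` and `t` -/
def NoEdges (s t : Finset V) : Prop := ∀ u ∈ s, ∀ w ∈ t, ¬ G.Adj u w

/-- `ℓ` is a line -/
def IsLine (ℓ : Finset V) : Prop := ∃ x y, x ≠ y ∧ ¬ G.Adj x y ∧ ℓ = line G x y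

/-- the vertices with no neighbour in `ℓ` -/
def perp (ℓ : Finset V) : Finset V := univ.filter fun v => Disjoint (G.neighborFinset v) ℓ

/-- the union of the lines joining `v` to the vertices of `ℓ` -/
def plane (ℓ : Finset V) (v : V) : Finset V := ℓ.biUnion fun w => line G v w

/-- `C` is one of the distinguished cocliques of size 21 -/
def IsPoint (C : Finset V) : Prop :=
  ∃ ℓ v, IsLine G ℓ ∧ v ∈ perp G ℓ ∧ v ∉ ℓ ∧ C = plane G ℓ v

/-- the non-neighbours of `x` other than `x` -/
def far (x : V) : Finset V := univ.filter fun y => y ≠ x ∧ ¬ G.Adj x y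

/-- the lines through `x` -/
def linesAt (x : V) : Finset (Finset V) := (far G x).image (line G x)

open Classical in
/-- the lines through `x` that are joined to `m` by at least one edge -/
noncomputable def crossing (x : V) (m : Finset V) : Finset (Finset V) :=
  (linesAt G x).filter fun m' => ¬ NoEdges G m m'

open Classical in
/-- the lines through `x`, other than `m` and `m'`, with no edge to `m` and no edge to `m'` -/
noncomputable def parBoth (x : V) (m m' : Finset V) : Finset (Finset V) :=
  (linesAt G x).filter fun m'' => m'' ≠ m ∧ m'' ≠ m' ∧ NoEdges G m m'' ∧ NoEdges G m' m''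

open Classical in
/-- the set of all points -/
noncomputable def points : Finset (Finset V) := univ.filter (IsPoint G)

/-- the points containing the set `S` -/
noncomputable def pointsThrough (S : Finset V) : Finset (Finset V) := (points G).filter fun C => S ⊆ C

/-- the type of points -/
abbrev Pt : Type _ := {C : Finset V // C ∈ points G}

open Classical in
/-- the block of a vertex: the points containing it -/
noncomputable def blk (x : V) : Finset (Pt G) := univ.filter fun C => x ∈ C.1

/-- the blocks -/
def Blocks : Set (Finset (Pt G)) := Set.range (blk G)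

/-! ### unfolding lemmas -/

variable {G}

theorem mem_cn {x y v : V} : v ∈ cn G x y ↔ G.Adj x v ∧ G.Adj y v := by
  simp [cn]

theorem cn_comm (x y : V) : cn G x y = cn G y x := by
  simp [cn, inter_comm]

theorem mem_touch {x y v : V} {k : ℕ} : v ∈ touch G x y k ↔ v ≠ x ∧ v ≠ y ∧ ¬ G.Adj v x ∧ ¬ G.Adj v y ∧
    (G.neighborFinset v ∩ cn G x y).card = k := by
  simp [touch]

theorem touch_comm (x y : V) (k : ℕ) : touch G x y k = touch G y x k := by
  ext v
  rw [mem_touch, mem_touch, cn_comm x y]
  tauto

theorem mem_mates {x y v : V} : v ∈ mates G x y ↔ v ≠ x ∧ v ≠ y ∧ ¬ G.Adj v x ∧ ¬ G.Adj v y ∧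
    Disjoint (G.neighborFinset v) (cn G x y) := by
  rw [mates, mem_touch, card_eq_zero, disjoint_iff_inter_eq_empty]

theorem mates_comm (x y : V) : mates G x y = mates G y x := touch_comm x y 0

theorem mem_line {x y v : V} : v ∈ line G x y ↔ v = x ∨ v = y ∨ v ∈ mates G x y := by
  simp [line]

theorem line_comm (x y : V) : line G x y = line G y x := by
  ext v
  rw [mem_line, mem_line, mates_comm x y]
  tauto

theorem left_mem_line (x y : V) : x ∈ line G x y := mem_line.2 (Or.inl rfl)

theorem right_mem_line (x y : V) : y ∈ line G x y := mem_line.2 (Or.inr (Or.inl rfl))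

theorem mem_perp {ℓ : Finset V} {v : V} : v ∈ perp G ℓ ↔ Disjoint (G.neighborFinset v) ℓ := by
  simp [perp]

theorem mem_perp' {ℓ : Finset V} {v : V} : v ∈ perp G ℓ ↔ ∀ w ∈ ℓ, ¬ G.Adj v w := by
  rw [mem_perp, disjoint_left]
  constructor
  · intro h w hw hvw
    exact h ((G.mem_neighborFinset v w).2 hvw) hw
  · intro h w hw hwl
    exact h w hwl ((G.mem_neighborFinset v w).1 hw)

theorem mem_plane {ℓ : Finset V} {v u : V} : u ∈ plane G ℓ v ↔ ∃ w ∈ ℓ, u ∈ line G v w := by
  simp [plane]

theorem mem_far {x y : V} : y ∈ far G x ↔ y ≠ x ∧ ¬ G.Adj x y := by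
  simp [far]

theorem mem_linesAt {x : V} {m : Finset V} : m ∈ linesAt G x ↔ ∃ y, y ≠ x ∧ ¬ G.Adj x y ∧ line G x y = m := by
  simp only [linesAt, mem_image, mem_far]
  constructor
  · rintro ⟨y, ⟨h1, h2⟩, h3⟩
    exact ⟨y, h1, h2, h3⟩
  · rintro ⟨y, h1, h2, h3⟩
    exact ⟨y, ⟨h1, h2⟩, h3⟩

theorem mem_points {C : Finset V} : C ∈ points G ↔ IsPoint G C := by
  classical
  simp [points]

theorem mem_crossing {x : V} {m m' : Finset V} :
    m' ∈ crossing G x m ↔ m' ∈ linesAt G x ∧ ¬ NoEdges G m m' := by
  classical
  simp [crossing]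

theorem mem_parBoth {x : V} {m m' m'' : Finset V} :
    m'' ∈ parBoth G x m m' ↔ m'' ∈ linesAt G x ∧ m'' ≠ m ∧ m'' ≠ m' ∧ NoEdges G m m'' ∧ NoEdges G m' m'' := by
  classical
  simp [parBoth]

theorem mem_pointsThrough {S C : Finset V} : C ∈ pointsThrough G S ↔ IsPoint G C ∧ S ⊆ C := by
  simp [pointsThrough, mem_points]

theorem mem_blk {x : V} {C : Pt G} : C ∈ blk G x ↔ x ∈ C.1 := by
  classical
  simp [blk]

theorem NoEdges.symm {s t : Finset V} (h : NoEdges G s t) : NoEdges G t s :=
  fun u hu w hw hadj => h w hw u hu hadj.symm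

end Cfsg.Agent.Helper94.Srg77
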