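import Cfsg.Agent.Helper94.Srg77.Facts
import Cfsg.Prelude.Def_Sporadic_a

set_option autoImplicit false
set_option linter.unusedSectionVars false

/-!
# srg(77,16,0,4): level 9 (the blocks of the Steiner system)
-/

namespace Cfsg.Agent.Helper94.Srg77

open Finset

variable {V : Type*} [Fintype V] [DecidableEq V] (G : SimpleGraph V) [DecidableRel G.Adj]

/-- Level 9: the blocks `blk G x` (the points containing `x`). -/
structure F9 : Prop extends F8 G where
  card_Pt : Fintype.card (Pt G) = 22
  blk_card : ∀ x : V, (blk G x).card = 6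
  blk_adj : ∀ {x y : V}, G.Adj x y → Disjoint (blk G x) (blk G y)
  blk_nadj : ∀ {x y : V}, x ≠ y → ¬ G.Adj x y → (blk G x ∩ blk G y).card = 2
  blk_injective : Function.Injective (blk G)

end Cfsg.Agent.Helper94.Srg77
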