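import Cfsg.Agent.Helper94.Srg77.Defs

set_option autoImplicit false
set_option linter.unusedSectionVars false

/-!
# srg(77,16,0,4): the chain of facts, as cumulative structures

Every piece of the farm proves the fields of one of these structures from `Hyp G` and the
previous structure, so all pieces are independent of each other.
-/

namespace Cfsg.Agent.Helper94.Srg77

open Finset

variable {V : Type*} [Fintype V] [DecidableEq V] (G : SimpleGraph V) [DecidableRel G.Adj]

/-- Level 1: three pairwise non-adjacent vertices have at most two common neighbours. -/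
structure F1 : Prop where
  k33 : ∀ {x y z : V}, x ≠ y → x ≠ z → y ≠ z → ¬ G.Adj x y → ¬ G.Adj x z → ¬ G.Adj y z →
    (cn G x y ∩ G.neighborFinset z).card ≤ 2

/-- Level 2: the numbers of vertices off `x, y` (non-adjacent to both) by the number of their
neighbours in `cn G x y`. -/
structure F2 : Prop extends F1 G where
  card_mates : ∀ {x y : V}, x ≠ y → ¬ G.Adj x y → (mates G x y).card = 3
  card_touch1 : ∀ {x y : V}, x ≠ y → ¬ G.Adj x y → (touch G x y 1).card = 32
  card_touch2 : ∀ {x y : V}, x ≠ y → ¬ G.Adj x y → (touch G x y 2).card = 12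

/-- Level 3a: the neighbourhood of a mate. -/
structure F3a : Prop extends F2 G where
  nbr_mate : ∀ {x y z : V}, x ≠ y → ¬ G.Adj x y → z ∈ mates G x y →
    G.neighborFinset z ⊆ cn G z x ∪ cn G z y ∪ touch G x y 2
  card_nbr_mate : ∀ {x y z : V}, x ≠ y → ¬ G.Adj x y → z ∈ mates G x y →
    (G.neighborFinset z ∩ touch G x y 2).card = 8

/-- Level 3b: mates are pairwise non-adjacent, "being mates" is transitive, and the vertices of
`touch G x y 2` resp. `touch G x y 1` have exactly two resp. no neighbours among the mates. -/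
structure F3 : Prop extends F3a G where
  mates_not_adj : ∀ {x y z z' : V}, x ≠ y → ¬ G.Adj x y → z ∈ mates G x y → z' ∈ mates G x y →
    ¬ G.Adj z z'
  mates_trans : ∀ {x y z z' : V}, x ≠ y → ¬ G.Adj x y → z ∈ mates G x y → z' ∈ mates G x y →
    z ≠ z' → z' ∈ mates G x z
  touch2_mates : ∀ {x y v : V}, x ≠ y → ¬ G.Adj x y → v ∈ touch G x y 2 →
    (G.neighborFinset v ∩ mates G x y).card = 2
  touch1_mates : ∀ {x y v : V}, x ≠ y → ¬ G.Adj x y → v ∈ touch G x y 1 →
    Disjoint (G.neighborFinset v) (mates G x y)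

/-- Level 4a: lines. -/
structure F4a : Prop extends F3 G where
  line_card : ∀ {x y : V}, x ≠ y → ¬ G.Adj x y → (line G x y).card = 5
  line_noEdges : ∀ {x y : V}, x ≠ y → ¬ G.Adj x y → NoEdges G (line G x y) (line G x y)
  line_eq : ∀ {x y u w : V}, x ≠ y → ¬ G.Adj x y → u ∈ line G x y → w ∈ line G x y → u ≠ w →
    line G u w = line G x y

/-- Level 4: a vertex off a line has 0 or 2 neighbours on it. -/
structure F4 : Prop extends F4a G where
  e02 : ∀ {x y v : V}, x ≠ y → ¬ G.Adj x y → v ∉ line G x y →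
    (G.neighborFinset v ∩ line G x y).card = 0 ∨ (G.neighborFinset v ∩ line G x y).card = 2

/-- Level 5a: triangles `x, w, w'` (pairwise non-adjacent, not on a line). -/
structure F5a : Prop extends F4 G where
  tri_card : ∀ {x w w' : V}, x ≠ w → x ≠ w' → w ≠ w' → ¬ G.Adj x w → ¬ G.Adj x w' → ¬ G.Adj w w' →
    w' ∉ line G x w →
    (cn G x w ∩ G.neighborFinset w').card = 1 ∨ (cn G x w ∩ G.neighborFinset w').card = 2
  tri_perp : ∀ {x w w' : V}, x ≠ w → x ≠ w' → w ≠ w' → ¬ G.Adj x w → ¬ G.Adj x w' → ¬ G.Adj w w' →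
    w' ∉ line G x w →
    ((cn G x w ∩ G.neighborFinset w').card = 1 ↔ x ∈ perp G (line G w w'))

/-- Level 5: two lines through `x` are parallel (no edges) iff one (every) transversal pair has
exactly one common neighbour with `x`. -/
structure F5 : Prop extends F5a G where
  tri_par : ∀ {x w w' : V}, x ≠ w → x ≠ w' → w ≠ w' → ¬ G.Adj x w → ¬ G.Adj x w' → ¬ G.Adj w w' →
    w' ∉ line G x w →
    ((cn G x w ∩ G.neighborFinset w').card = 1 ↔ NoEdges G (line G x w) (line G x w'))

/-- Level 6a: the 15 lines through a vertex, 6 of them crossing a given one; the Hoffman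
property of 21-cocliques. -/
structure F6a : Prop extends F5 G where
  card_linesAt : ∀ x : V, (linesAt G x).card = 15
  crossing_card : ∀ {x : V} {m : Finset V}, m ∈ linesAt G x → (crossing G x m).card = 6
  cross_two : ∀ {x c : V} {m m' : Finset V}, m ∈ linesAt G x → m' ∈ linesAt G x → ¬ NoEdges G m m' →
    c ∈ m' → c ≠ x → (G.neighborFinset c ∩ m).card = 2
  coclique_six : ∀ C : Finset V, NoEdges G C C → C.card = 21 → ∀ u, u ∉ C →
    (G.neighborFinset u ∩ C).card = 6

/-- Level 6: two parallel lines through `x` have at most 4 common parallels through `x`. -/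
structure F6 : Prop extends F6a G where
  par_le : ∀ {x : V} {m m' : Finset V}, m ∈ linesAt G x → m' ∈ linesAt G x → m ≠ m' →
    NoEdges G m m' → (parBoth G x m m').card ≤ 4

/-- Level 7a: planes are cocliques of size 21. -/
structure F7a : Prop extends F6 G where
  line_subset_plane : ∀ {ℓ : Finset V} {v : V}, IsLine G ℓ → v ∈ perp G ℓ → v ∉ ℓ → ℓ ⊆ plane G ℓ v
  self_mem_plane : ∀ {ℓ : Finset V} {v : V}, IsLine G ℓ → v ∈ perp G ℓ → v ∉ ℓ → v ∈ plane G ℓ v
  plane_noEdges : ∀ {ℓ : Finset V} {v : V}, IsLine G ℓ → v ∈ perp G ℓ → v ∉ ℓ →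
    NoEdges G (plane G ℓ v) (plane G ℓ v)
  plane_card : ∀ {ℓ : Finset V} {v : V}, IsLine G ℓ → v ∈ perp G ℓ → v ∉ ℓ → (plane G ℓ v).card = 21

/-- Level 7: planes are closed under lines. -/
structure F7 : Prop extends F7a G where
  plane_closed : ∀ {ℓ : Finset V} {v y y' : V}, IsLine G ℓ → v ∈ perp G ℓ → v ∉ ℓ →
    y ∈ plane G ℓ v → y' ∈ plane G ℓ v → y ≠ y' → line G y y' ⊆ plane G ℓ v

/-- Level 8a: every line lies in exactly two points. -/
structure F8a : Prop extends F7 G where
  points_of_line : ∀ {ℓ : Finset V}, IsLine G ℓ → (pointsThrough G ℓ).card = 2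

/-- Level 8: every vertex lies in 6 points, two non-adjacent vertices in 2; there are 22 points. -/
structure F8 : Prop extends F8a G where
  points_of_vertex : ∀ x : V, (pointsThrough G {x}).card = 6
  points_of_pair : ∀ {x y : V}, x ≠ y → ¬ G.Adj x y → (pointsThrough G {x, y}).card = 2
  card_points : (points G).card = 22

end Cfsg.Agent.Helper94.Srg77
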