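import Cfsg.Agent.Helper94.Srg77.Facts

set_option autoImplicit false
set_option linter.unusedSectionVars false
set_option linter.unusedVariables false

namespace Cfsg.Agent.Helper94.Srg77

open Finset

variable {V : Type*} [Fintype V] [DecidableEq V] {G : SimpleGraph V} [DecidableRel G.Adj]

theorem D12_inter_eq (x w w' : V) :
    cn G x w ∩ G.neighborFinset w' = G.neighborFinset x ∩ cn G w w' := by
  ext v
  simp only [cn, mem_inter]
  tauto

theorem tri_card (h : Hyp G) (f : F4 G) {x w w' : V} (h1 : x ≠ w) (h2 : x ≠ w') (h3 : w ≠ w')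
    (n1 : ¬ G.Adj x w) (n2 : ¬ G.Adj x w') (n3 : ¬ G.Adj w w') (hw' : w' ∉ line G x w) :
    (cn G x w ∩ G.neighborFinset w').card = 1 ∨ (cn G x w ∩ G.neighborFinset w').card = 2 := by
  have hle : (cn G x w ∩ G.neighborFinset w').card ≤ 2 := f.k33 h1 h2 h3 n1 n2 n3
  have hne : (cn G x w ∩ G.neighborFinset w').card ≠ 0 := by
    intro h0
    apply hw'
    rw [mem_line]
    right; right
    rw [mem_mates]
    refine ⟨fun e => h2 e.symm, fun e => h3 e.symm, fun e => n2 e.symm, fun e => n3 e.symm, ?_⟩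
    rw [disjoint_iff_inter_eq_empty, inter_comm]
    exact card_eq_zero.1 h0
  omega

theorem tri_perp (h : Hyp G) (f : F4 G) {x w w' : V} (h1 : x ≠ w) (h2 : x ≠ w') (h3 : w ≠ w')
    (n1 : ¬ G.Adj x w) (n2 : ¬ G.Adj x w') (n3 : ¬ G.Adj w w') (hw' : w' ∉ line G x w) :
    ((cn G x w ∩ G.neighborFinset w').card = 1 ↔ x ∈ perp G (line G w w')) := by
  have hcard := tri_card h f h1 h2 h3 n1 n2 n3 hw'
  have hmem : ∀ k, (cn G x w ∩ G.neighborFinset w').card = k → x ∈ touch G w w' k := by
    intro k hk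
    rw [mem_touch]
    refine ⟨h1, h2, n1, n2, ?_⟩
    rw [← D12_inter_eq]
    exact hk
  constructor
  · intro hk
    have hx := hmem 1 hk
    have hdis := f.touch1_mates h3 n3 hx
    rw [mem_perp']
    intro u hu hadj
    rw [mem_line] at hu
    rcases hu with rfl | rfl | hu
    · exact n1 hadj
    · exact n2 hadj
    · exact (disjoint_left.1 hdis) ((G.mem_neighborFinset x u).2 hadj) hu
  · intro hperp
    rcases hcard with hk | hk
    · exact hk
    · exfalso
      have hx := hmem 2 hk
      have h2c := f.touch2_mates h3 n3 hx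
      have hpos : 0 < (G.neighborFinset x ∩ mates G w w').card := by omega
      obtain ⟨u, hu⟩ := card_pos.1 hpos
      rw [mem_inter] at hu
      rw [mem_perp'] at hperp
      exact hperp u (mem_line.2 (Or.inr (Or.inr hu.2))) ((G.mem_neighborFinset x u).1 hu.1)

end Cfsg.Agent.Helper94.Srg77
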