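import Cfsg.Agent.Helper94.Srg77.Facts

set_option autoImplicit false
set_option linter.unusedSectionVars false
set_option linter.unusedVariables false

namespace Cfsg.Agent.Helper94.Srg77

open Finset

variable {V : Type*} [Fintype V] [DecidableEq V] {G : SimpleGraph V} [DecidableRel G.Adj]

/-- the definition of mates is symmetric in the three vertices (rotation) -/
theorem LN_mates_rot {x y z : V} (hxy : x ≠ y) (nxy : ¬ G.Adj x y) (hz : z ∈ mates G x y) :
    y ∈ mates G x z := by
  rw [mem_mates] at hz ⊢
  obtain ⟨hzx, hzy, nzx, nzy, hd⟩ := hz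
  refine ⟨hxy.symm, hzy.symm, fun h => nxy h.symm, fun h => nzy h.symm, ?_⟩
  rw [disjoint_left] at hd ⊢
  intro v hvy hv
  rw [mem_cn] at hv
  apply hd ((G.mem_neighborFinset z v).2 hv.2)
  rw [mem_cn]
  exact ⟨hv.1, (G.mem_neighborFinset y v).1 hvy⟩

theorem line_card (h : Hyp G) (f : F3 G) {x y : V} (hxy : x ≠ y) (nxy : ¬ G.Adj x y) :
    (line G x y).card = 5 := by
  have hx : x ∉ insert y (mates G x y) := by
    rw [mem_insert, not_or]
    refine ⟨hxy, fun hm => ?_⟩
    exact (mem_mates.1 hm).1 rfl
  have hy : y ∉ mates G x y := fun hm => (mem_mates.1 hm).2.1 rfl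
  rw [line, card_insert_of_notMem hx, card_insert_of_notMem hy, f.card_mates hxy nxy]

theorem line_noEdges (h : Hyp G) (f : F3 G) {x y : V} (hxy : x ≠ y) (nxy : ¬ G.Adj x y) :
    NoEdges G (line G x y) (line G x y) := by
  intro u hu w hw
  rw [mem_line] at hu hw
  rcases hu with rfl | rfl | hu <;> rcases hw with rfl | rfl | hw
  · exact G.irrefl
  · exact nxy
  · exact fun hadj => (mem_mates.1 hw).2.2.1 hadj.symm
  · exact fun hadj => nxy hadj.symm
  · exact G.irrefl
  · exact fun hadj => (mem_mates.1 hw).2.2.2.1 hadj.symm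
  · exact (mem_mates.1 hu).2.2.1
  · exact (mem_mates.1 hu).2.2.2.1
  · exact f.mates_not_adj hxy nxy hu hw

/-- replacing `y` by a mate does not change the line -/
theorem LN_line_mate (h : Hyp G) (f : F3 G) {x y z : V} (hxy : x ≠ y) (nxy : ¬ G.Adj x y)
    (hz : z ∈ mates G x y) : line G x z = line G x y := by
  have hz' := mem_mates.1 hz
  have hxz : x ≠ z := fun e => hz'.1 e.symm
  have nxz : ¬ G.Adj x z := fun hadj => hz'.2.2.1 hadj.symm
  -- mates G x z = insert y (mates G x y \ {z})
  have hsub : insert y ((mates G x y).erase z) ⊆ mates G x z := by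
    intro u hu
    rw [mem_insert] at hu
    rcases hu with rfl | hu
    · exact LN_mates_rot hxy nxy hz
    · rw [mem_erase] at hu
      exact f.mates_trans hxy nxy hz hu.2 (fun e => hu.1 e.symm)
  have hcard : (insert y ((mates G x y).erase z)).card = 3 := by
    have hy : y ∉ (mates G x y).erase z := fun hm => (mem_mates.1 (mem_of_mem_erase hm)).2.1 rfl
    rw [card_insert_of_notMem hy, card_erase_of_mem hz, f.card_mates hxy nxy]
  have heq : insert y ((mates G x y).erase z) = mates G x z :=
    eq_of_subset_of_card_le hsub (by rw [hcard, f.card_mates hxz nxz])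
  ext u
  rw [mem_line, mem_line, ← heq, mem_insert, mem_erase]
  constructor
  · rintro (rfl | rfl | rfl | ⟨_, hu⟩)
    · exact Or.inl rfl
    · exact Or.inr (Or.inr hz)
    · exact Or.inr (Or.inl rfl)
    · exact Or.inr (Or.inr hu)
  · rintro (rfl | rfl | hu)
    · exact Or.inl rfl
    · exact Or.inr (Or.inr (Or.inl rfl))
    · by_cases e : u = z
      · exact Or.inr (Or.inl e)
      · exact Or.inr (Or.inr (Or.inr ⟨e, hu⟩))

/-- a line through `x` is determined by any of its other vertices -/
theorem LN_line_left (h : Hyp G) (f : F3 G) {x y w : V} (hxy : x ≠ y) (nxy : ¬ G.Adj x y)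
    (hw : w ∈ line G x y) (hwx : w ≠ x) : line G x w = line G x y := by
  rw [mem_line] at hw
  rcases hw with rfl | rfl | hw
  · exact absurd rfl hwx
  · rfl
  · exact LN_line_mate h f hxy nxy hw

theorem line_eq (h : Hyp G) (f : F3 G) {x y u w : V} (hxy : x ≠ y) (nxy : ¬ G.Adj x y)
    (hu : u ∈ line G x y) (hw : w ∈ line G x y) (huw : u ≠ w) : line G u w = line G x y := by
  have hne := line_noEdges h f hxy nxy
  by_cases hux : u = x
  · subst hux
    exact LN_line_left h f hxy nxy hw (fun e => huw e.symm)
  · -- line x u = line x y, then move the base point from x to u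
    have h1 : line G x u = line G x y := LN_line_left h f hxy nxy hu hux
    have hxu : x ≠ u := fun e => hux e.symm
    have nxu : ¬ G.Adj x u := hne x (left_mem_line x y) u hu
    have hw' : w ∈ line G u x := by rw [line_comm, h1]; exact hw
    have h2 : line G u w = line G u x :=
      LN_line_left h f hxu.symm (fun hadj => nxu hadj.symm) hw' (fun e => huw e.symm)
    rw [h2, line_comm, h1]

end Cfsg.Agent.Helper94.Srg77
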