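import Cfsg.Agent.Helper94.Srg77.Facts

set_option autoImplicit false
set_option linter.unusedSectionVars false
set_option linter.unusedVariables false

namespace Cfsg.Agent.Helper94.Srg77

open Finset

variable {V : Type*} [Fintype V] [DecidableEq V] {G : SimpleGraph V} [DecidableRel G.Adj]

theorem mates_not_adj (h : Hyp G) (f : F3a G) {x y z z' : V} (hxy : x ≠ y) (nxy : ¬ G.Adj x y)
    (hz : z ∈ mates G x y) (hz' : z' ∈ mates G x y) : ¬ G.Adj z z' := by
  intro hadj
  have hsub := f.nbr_mate hxy nxy hz ((G.mem_neighborFinset z z').2 hadj)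
  have hz'm := mem_mates.1 hz'
  rw [mem_union, mem_union] at hsub
  rcases hsub with (h1 | h1) | h1
  · exact hz'm.2.2.1 (mem_cn.1 h1).2.symm
  · exact hz'm.2.2.2.1 (mem_cn.1 h1).2.symm
  · have h2 := (mem_touch.1 h1).2.2.2.2
    have h0 : (G.neighborFinset z' ∩ cn G x y).card = 0 := (mem_touch.1 hz').2.2.2.2
    omega

theorem mates_trans (h : Hyp G) (f : F3a G) {x y z z' : V} (hxy : x ≠ y) (nxy : ¬ G.Adj x y)
    (hz : z ∈ mates G x y) (hz' : z' ∈ mates G x y) (hne : z ≠ z') : z' ∈ mates G x z := by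
  have hzm := mem_mates.1 hz
  have hz'm := mem_mates.1 hz'
  have nzz' : ¬ G.Adj z z' := mates_not_adj h f hxy nxy hz hz'
  set P := touch G x y 2 with hP
  have hPcard : P.card = 12 := f.card_touch2 hxy nxy
  have h8 : (G.neighborFinset z ∩ P).card = 8 := f.card_nbr_mate hxy nxy hz
  have h8' : (G.neighborFinset z' ∩ P).card = 8 := f.card_nbr_mate hxy nxy hz'
  -- the two 8-subsets of the 12-set P meet in at least 4 elements
  have hunion : ((G.neighborFinset z ∩ P) ∪ (G.neighborFinset z' ∩ P)).card ≤ 12 := by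
    rw [← hPcard]
    apply card_le_card
    intro v hv
    rw [mem_union, mem_inter, mem_inter] at hv
    rcases hv with hv | hv <;> exact hv.2
  have hie := card_union_add_card_inter (G.neighborFinset z ∩ P) (G.neighborFinset z' ∩ P)
  have hinter_ge : 4 ≤ ((G.neighborFinset z ∩ P) ∩ (G.neighborFinset z' ∩ P)).card := by omega
  have hsub : (G.neighborFinset z ∩ P) ∩ (G.neighborFinset z' ∩ P) ⊆ cn G z z' := by
    intro v hv
    rw [mem_inter, mem_inter, mem_inter] at hv
    rw [cn, mem_inter]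
    exact ⟨hv.1.1, hv.2.1⟩
  have hcn : (cn G z z').card = 4 := h.nadj z z' hne nzz'
  have heq : (G.neighborFinset z ∩ P) ∩ (G.neighborFinset z' ∩ P) = cn G z z' :=
    eq_of_subset_of_card_le hsub (by omega)
  rw [mem_mates]
  refine ⟨hz'm.1, fun e => hne e.symm, hz'm.2.2.1, fun hadj => nzz' hadj.symm, ?_⟩
  rw [disjoint_left]
  intro v hvz' hv
  rw [mem_cn] at hv
  have hvc : v ∈ cn G z z' := by
    rw [mem_cn]
    exact ⟨hv.2, (G.mem_neighborFinset z' v).1 hvz'⟩
  rw [← heq, mem_inter, mem_inter] at hvc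
  have hvP := (mem_touch.1 hvc.1.2).2.2.1
  exact hvP hv.1.symm

end Cfsg.Agent.Helper94.Srg77
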