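import Cfsg.Agent.Helper94.Srg77.Facts9
import Cfsg.Agent.Helper94.Srg77.PieceLN
import Cfsg.Agent.Helper94.Srg77.PieceTRB
import Cfsg.Agent.Helper94.Srg77.PieceD12
import Cfsg.Agent.Helper55.Srg77_K
import Cfsg.Agent.Helper55.Srg77_ZC
import Cfsg.Agent.Helper10.Srg77_TRA
import Cfsg.Agent.Helper10.Srg77_TRD
import Cfsg.Agent.Helper46.Srg77_E
import Cfsg.Agent.Helper90.Srg77_D3
import Cfsg.Agent.Helper90.Srg77_LAM
import Cfsg.Agent.Helper60.Srg77_LA
import Cfsg.Agent.Helper60.Srg77_ST
import Cfsg.Agent.Helper60.Srg77_ISO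
import Cfsg.Agent.Helper60.Srg77_BG
import Cfsg.Agent.Helper57.Srg77_CR
import Cfsg.Agent.Helper57.Srg77_P1
import Cfsg.Agent.Helper68.Srg77_H
import Cfsg.Agent.Helper68.Srg77_PL
import Cfsg.Agent.Helper68.Srg77_P2
import Cfsg.Agent.Helper66.Srg77_P3
import Cfsg.Agent.Helper66.Srg77_P4
import Cfsg.Agent.Helper66.Srg77_C22
import Cfsg.Agent.Helper66.Srg77_BK
import Cfsg.Agent.S0410

set_option autoImplicit false
set_option linter.unusedSectionVars false

/-!
# Uniqueness of srg(77,16,0,4): assembly of the farmed pieces (board #15115)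

Chain: `Hyp G` → `F1 G` → … → `F9 G` (see `Facts.lean`, `Facts9.lean`); then `G` is the block graph
of the Steiner system `S(3,6,22)` on the 22 points (`isoBlock`, `steiner`), and `S(3,6,22)` is unique
(`Cfsg.Agent.S0410.result`).
-/

namespace Cfsg.Agent.Helper94.Srg77

open Finset

variable {V : Type*} [Fintype V] [DecidableEq V] {G : SimpleGraph V} [DecidableRel G.Adj]

theorem cn_card_aux (v w : V) [Fintype (G.commonNeighbors v w)] :
    Fintype.card (G.commonNeighbors v w) = (G.neighborFinset v ∩ G.neighborFinset w).card := by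
  rw [← Set.toFinset_card]
  congr 1
  ext x
  rw [Set.mem_toFinset]
  simp [SimpleGraph.commonNeighbors]

theorem hyp_of_srg (hG : G.IsSRGWith 77 16 0 4) : Hyp G where
  card := hG.card
  deg := fun x => hG.regular.degree_eq x
  adj := fun x y hxy => by
    have := hG.of_adj x y hxy
    rwa [cn_card_aux, Finset.card_eq_zero] at this
  nadj := fun x y hne hxy => by
    have := hG.of_not_adj hne hxy
    rwa [cn_card_aux] at this

theorem mkF1 (h : Hyp G) : F1 G := ⟨fun a b c d e f => Cfsg.Agent.Helper55.Srg77.k33 h a b c d e f⟩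

theorem mkF2 (h : Hyp G) : F2 G :=
  { mkF1 h with
    card_mates := fun a b => Cfsg.Agent.Helper55.Srg77.card_mates h (mkF1 h) a b
    card_touch1 := fun a b => Cfsg.Agent.Helper55.Srg77.card_touch1 h (mkF1 h) a b
    card_touch2 := fun a b => Cfsg.Agent.Helper55.Srg77.card_touch2 h (mkF1 h) a b }

theorem mkF3a (h : Hyp G) : F3a G :=
  { mkF2 h with
    nbr_mate := fun a b c => Cfsg.Agent.Helper10.Srg77.nbr_mate h (mkF2 h) a b c
    card_nbr_mate := fun a b c => Cfsg.Agent.Helper10.Srg77.card_nbr_mate h (mkF2 h) a b c }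

theorem mkF3 (h : Hyp G) : F3 G :=
  { mkF3a h with
    mates_not_adj := fun a b c d => Cfsg.Agent.Helper94.Srg77.mates_not_adj h (mkF3a h) a b c d
    mates_trans := fun a b c d e => Cfsg.Agent.Helper94.Srg77.mates_trans h (mkF3a h) a b c d e
    touch2_mates := fun a b c => Cfsg.Agent.Helper10.Srg77.touch2_mates h (mkF3a h) a b c
    touch1_mates := fun a b c => Cfsg.Agent.Helper10.Srg77.touch1_mates h (mkF3a h) a b c }

theorem mkF4a (h : Hyp G) : F4a G :=
  { mkF3 h with
    line_card := fun a b => Cfsg.Agent.Helper94.Srg77.line_card h (mkF3 h) a b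
    line_noEdges := fun a b => Cfsg.Agent.Helper94.Srg77.line_noEdges h (mkF3 h) a b
    line_eq := fun a b c d e => Cfsg.Agent.Helper94.Srg77.line_eq h (mkF3 h) a b c d e }

theorem mkF4 (h : Hyp G) : F4 G :=
  { mkF4a h with e02 := fun a b c => Cfsg.Agent.Helper46.Srg77.e02 h (mkF4a h) a b c }

theorem mkF5a (h : Hyp G) : F5a G :=
  { mkF4 h with
    tri_card := fun a b c d e f g => Cfsg.Agent.Helper94.Srg77.tri_card h (mkF4 h) a b c d e f g
    tri_perp := fun a b c d e f g => Cfsg.Agent.Helper94.Srg77.tri_perp h (mkF4 h) a b c d e f g }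

theorem mkF5 (h : Hyp G) : F5 G :=
  { mkF5a h with
    tri_par := fun a b c d e f g => Cfsg.Agent.Helper90.Srg77.tri_par h (mkF5a h) a b c d e f g }

theorem mkF6a (h : Hyp G) : F6a G :=
  { mkF5 h with
    card_linesAt := fun x => Cfsg.Agent.Helper60.Srg77.card_linesAt h (mkF5 h) x
    crossing_card := fun a => Cfsg.Agent.Helper57.Srg77.crossing_card h (mkF5 h) a
    cross_two := fun a b c d e => Cfsg.Agent.Helper57.Srg77.cross_two h (mkF5 h) a b c d e
    coclique_six := fun C a b u c => Cfsg.Agent.Helper68.Srg77.coclique_six h C a b u c }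

theorem mkF6 (h : Hyp G) : F6 G :=
  { mkF6a h with par_le := fun a b c d => Cfsg.Agent.Helper90.Srg77.par_le h (mkF6a h) a b c d }

theorem mkF7a (h : Hyp G) : F7a G :=
  { mkF6 h with
    line_subset_plane := fun a b c => Cfsg.Agent.Helper68.Srg77.line_subset_plane h (mkF6 h) a b c
    self_mem_plane := fun a b c => Cfsg.Agent.Helper68.Srg77.self_mem_plane h (mkF6 h) a b c
    plane_noEdges := fun a b c => Cfsg.Agent.Helper68.Srg77.plane_noEdges h (mkF6 h) a b c
    plane_card := fun a b c => Cfsg.Agent.Helper68.Srg77.plane_card h (mkF6 h) a b c }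

theorem mkF7 (h : Hyp G) : F7 G :=
  { mkF7a h with
    plane_closed := fun a b c d e f =>
      Cfsg.Agent.Helper57.Srg77.plane_closed h (mkF7a h) a b c d e f }

theorem mkF8a (h : Hyp G) : F8a G :=
  { mkF7 h with points_of_line := fun a => Cfsg.Agent.Helper68.Srg77.points_of_line h (mkF7 h) a }

theorem mkF8 (h : Hyp G) : F8 G :=
  { mkF8a h with
    points_of_vertex := fun x => Cfsg.Agent.Helper66.Srg77.points_of_vertex h (mkF8a h) x
    points_of_pair := fun a b => Cfsg.Agent.Helper66.Srg77.points_of_pair h (mkF8a h) a b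
    card_points := Cfsg.Agent.Helper66.Srg77.card_points h (mkF8a h)
      (fun x => Cfsg.Agent.Helper66.Srg77.points_of_vertex h (mkF8a h) x) }

theorem mkF9 (h : Hyp G) : F9 G :=
  { mkF8 h with
    card_Pt := Cfsg.Agent.Helper66.Srg77.card_Pt h (mkF8 h)
    blk_card := fun x => Cfsg.Agent.Helper66.Srg77.blk_card h (mkF8 h) x
    blk_adj := fun a => Cfsg.Agent.Helper66.Srg77.blk_adj h (mkF8 h) a
    blk_nadj := fun a b => Cfsg.Agent.Helper66.Srg77.blk_nadj h (mkF8 h) a b
    blk_injective := Cfsg.Agent.Helper66.Srg77.blk_injective h (mkF8 h) }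

theorem unique_of_hyp {W : Type*} [Fintype W] [DecidableEq W] {H : SimpleGraph W}
    [DecidableRel H.Adj] (hG : Hyp G) (hH : Hyp H) : Nonempty (G ≃g H) := by
  classical
  have fG := mkF9 hG
  have fH := mkF9 hH
  obtain ⟨e1⟩ := Cfsg.Agent.Helper60.Srg77.isoBlock hG fG
  obtain ⟨e2⟩ := Cfsg.Agent.Helper60.Srg77.isoBlock hH fH
  have hiso : Cfsg.SetSystemIso (Blocks G) (Blocks H) :=
    Cfsg.Agent.S0410.result fG.card_Pt fH.card_Pt (Cfsg.Agent.Helper60.Srg77.steiner hG fG)
      (Cfsg.Agent.Helper60.Srg77.steiner hH fH)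
  obtain ⟨e3⟩ := Cfsg.Agent.Helper60.Srg77.blockGraph_iso hiso
  exact ⟨e1.trans (e3.trans e2.symm)⟩

end Cfsg.Agent.Helper94.Srg77
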